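import Groth.Agent.DerQC.Main
import Groth.Agent.W7Hull.Tilde
import Groth.Agent.W7Gen.Sect

/-!
Affine opens of semi-separated or Noetherian schemes.
-/

set_option autoImplicit false
set_option backward.isDefEq.respectTransparency false
set_option backward.isDefEq.respectTransparency.types false
set_option linter.style.haveILetI false

universe u

open CategoryTheory Limits AlgebraicGeometry

attribute [local instance] HasDerivedCategory.standard

namespace Groth.Agent.DerQC

lemma isAffineHom_fromSpec {X : Scheme.{u}}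
    (hdiag : ∀ U V : X.Opens, IsAffineOpen U → IsAffineOpen V → IsAffineOpen (U ⊓ V)) {U : X.Opens}
    (hU : IsAffineOpen U) : IsAffineHom hU.fromSpec := by
  refine ⟨fun V hV => ?_⟩
  rw [← hU.fromSpec.isAffineOpen_iff_of_isOpenImmersion, Scheme.Hom.image_preimage_eq_opensRange_inf, hU.opensRange_fromSpec]
  exact hdiag U V hU hV

theorem hypAff_of_diag {X : Scheme.{u}}
    (hdiag : ∀ U V : X.Opens, IsAffineOpen U → IsAffineOpen V → IsAffineOpen (U ⊓ V)) : HypAff X := fun U hU => by
  haveI := isAffineHom_fromSpec hdiag hU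
  haveI := hasInj' (Spec Γ(X, U))
  exact ⟨inferInstance, fun I _ i hi => DQPush.isZero_rpush_of_affine _ (tilde I) (QC.isQCoh_tilde I) hi⟩

theorem hypAff_of_noetherian (X : Scheme.{u}) [IsNoetherian X] : HypAff X := fun U hU => by
  haveI : IsNoetherianRing Γ(X, U) := IsLocallyNoetherian.component_noetherian ⟨U, hU⟩
  haveI := hasInj' (Spec Γ(X, U))
  refine ⟨inferInstance, fun I hI i hi => ?_⟩
  obtain ⟨p, rfl⟩ : ∃ p, i = p + 1 := ⟨i - 1, by omega⟩
  haveI : Module.Injective Γ(X, U) I := Module.injective_module_of_injective_object (R := Γ(X, U)) (M := I)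
  haveI := W7Hull.injective_tilde I
  exact W7Gen.isZero_rpush_injective (tilde I) p

end Groth.Agent.DerQC
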