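import Groth.Agent.KInj.Adjunction
import Groth.Agent.KInj.Lifting
import Mathlib.Algebra.Homology.DerivedCategory.KInjective

/-!
An exact functor with a right adjoint with invertible counit is fully faithful towards images of K-injective complexes.
-/

set_option autoImplicit false
set_option backward.isDefEq.respectTransparency false
set_option backward.isDefEq.respectTransparency.types false
set_option linter.style.haveILetI false

universe w v u v' u'

open CategoryTheory Limits HomologicalComplex

attribute [local instance] HasDerivedCategory.standard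

namespace Groth.Agent.DerQC

variable {A : Type u} [Category.{v} A] [Abelian A]

theorem exists_Q_map (P I : CochainComplex A ℤ) [I.IsKInjective]
    (φ : DerivedCategory.Q.obj P ⟶ DerivedCategory.Q.obj I) : ∃ f : P ⟶ I, DerivedCategory.Q.map f = φ := by
  let eq := DerivedCategory.quotientCompQhIso A
  obtain ⟨g, hg⟩ := (CochainComplex.IsKInjective.Qh_map_bijective ((HomotopyCategory.quotient _ _).obj P) I).2
    (eq.hom.app P ≫ φ ≫ eq.inv.app I)
  obtain ⟨f, rfl⟩ := (HomotopyCategory.quotient _ _).map_surjective g
  refine ⟨f, ?_⟩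
  have := eq.hom.naturality f
  simp only [Functor.comp_map] at this
  rw [hg, Category.assoc, Category.assoc, Iso.inv_hom_id_app, Category.comp_id] at this
  exact ((cancel_epi _).1 this).symm

theorem homotopy_of_Q_eq {P I : CochainComplex A ℤ} [I.IsKInjective] (f g : P ⟶ I)
    (h : DerivedCategory.Q.map f = DerivedCategory.Q.map g) : Nonempty (Homotopy f g) := by
  refine ⟨HomotopyCategory.homotopyOfEq f g ?_⟩
  apply (CochainComplex.IsKInjective.Qh_map_bijective _ I).1
  rw [← cancel_mono ((DerivedCategory.quotientCompQhIso A).hom.app I),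
    DerivedCategory.quotientCompQhIso_hom_naturality, DerivedCategory.quotientCompQhIso_hom_naturality, h]

variable {B : Type u'} [Category.{v'} B] [Abelian B] (L : B ⥤ A) [L.Additive] [PreservesFiniteLimits L]
  [PreservesFiniteColimits L] (R : A ⥤ B) [R.Additive] (adj : L ⊣ R) [∀ M, IsIso (adj.counit.app M)]

include adj in
/-- **derived full faithfulness towards direct images** -/
theorem bijective_mapDerived (P : CochainComplex B ℤ) (I : CochainComplex A ℤ) [I.IsKInjective] :
    Function.Bijective (fun φ : DerivedCategory.Q.obj P ⟶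
      DerivedCategory.Q.obj ((R.mapHomologicalComplex (ComplexShape.up ℤ)).obj I) => L.mapDerivedCategory.map φ) := by
  let Rc := R.mapHomologicalComplex (ComplexShape.up ℤ)
  let Lc := L.mapHomologicalComplex (ComplexShape.up ℤ)
  let a := KInj.mapHomologicalComplexAdj adj (ComplexShape.up ℤ)
  haveI : CochainComplex.IsKInjective (Rc.obj I) := KInj.isKInjective_rightAdjoint adj I inferInstance
  let εI : Lc.obj (Rc.obj I) ⟶ I := a.counit.app I
  haveI : ∀ i, IsIso (εI.f i) := fun i => inferInstanceAs (IsIso (adj.counit.app (I.X i)))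
  haveI : IsIso εI := Hom.isIso_of_components εI
  haveI : IsIso (DerivedCategory.Q.map εI) := inferInstance
  let F := L.mapDerivedCategoryFactors
  have key : ∀ f : P ⟶ Rc.obj I, L.mapDerivedCategory.map (DerivedCategory.Q.map f) =
      F.hom.app P ≫ DerivedCategory.Q.map (Lc.map f) ≫ F.inv.app (Rc.obj I) := fun f => by
    have h := F.hom.naturality f
    simp only [Functor.comp_map] at h
    rw [← Category.assoc, ← h, Category.assoc, Iso.hom_inv_id_app]
    exact (Category.comp_id _).symm
  refine ⟨fun φ φ' h => ?_, fun ψ => ?_⟩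
  · obtain ⟨f, rfl⟩ := exists_Q_map P (Rc.obj I) φ
    obtain ⟨f', rfl⟩ := exists_Q_map P (Rc.obj I) φ'
    simp only [key, cancel_epi, cancel_mono] at h
    obtain ⟨H⟩ := homotopy_of_Q_eq (Lc.map f ≫ εI) (Lc.map f' ≫ εI)
      (by rw [Functor.map_comp, Functor.map_comp, h])
    have hf : ∀ g : P ⟶ Rc.obj I, g = a.unit.app P ≫ Rc.map (Lc.map g ≫ a.counit.app I) := fun g =>
      ((a.homEquiv P I).apply_symm_apply g).symm.trans (by rw [Adjunction.homEquiv_unit, Adjunction.homEquiv_counit])
    exact DerivedCategory.Q_map_eq_of_homotopy _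
      ((Homotopy.ofEq (hf f)).trans (((R.mapHomotopy H).compLeft (a.unit.app P)).trans (Homotopy.ofEq (hf f').symm)))
  · obtain ⟨g, hg⟩ := exists_Q_map (Lc.obj P) I
      (F.inv.app P ≫ ψ ≫ F.hom.app (Rc.obj I) ≫ DerivedCategory.Q.map εI)
    refine ⟨DerivedCategory.Q.map (a.homEquiv P I g), ?_⟩
    have h : DerivedCategory.Q.map (Lc.map (a.homEquiv P I g)) = F.inv.app P ≫ ψ ≫ F.hom.app (Rc.obj I) := by
      rw [← cancel_mono (DerivedCategory.Q.map εI), ← Functor.map_comp,
        show Lc.map (a.homEquiv P I g) ≫ εI = g from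
          (a.homEquiv_counit _ _ _).symm.trans ((a.homEquiv P I).symm_apply_apply g),
        hg, Category.assoc, Category.assoc]
    simp only [key, h, Category.assoc, Iso.hom_inv_id_app]
    exact (Iso.hom_inv_id_app_assoc F P _).trans (Category.comp_id ψ)

end Groth.Agent.DerQC
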