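import Groth.Agent.DerQC.Adj
import Groth.Agent.DQPush.Acyclic
import Groth.Agent.DQCoh.Affine
import Groth.Agent.PerfGen.Open
import Mathlib.CategoryTheory.Abelian.Subcategory
import Mathlib.CategoryTheory.Adjunction.Restrict

/-!
`D(QCoh X) ⥤ D(X)` near an affine open.
-/

set_option autoImplicit false
set_option backward.isDefEq.respectTransparency false
set_option backward.isDefEq.respectTransparency.types false
set_option linter.style.haveILetI false
set_option linter.unusedSectionVars false
set_option maxHeartbeats 1000000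

universe u

open CategoryTheory Limits AlgebraicGeometry HomologicalComplex

attribute [local instance] HasDerivedCategory.standard

noncomputable section

namespace Groth.Agent.DerQC

open Groth.Agent.DQCoh (RD rdIso)

/-- quasi-coherence -/
abbrev qcP (X : Scheme.{u}) : ObjectProperty X.Modules := fun M => Coh.IsQCoh M

/-- quasi-coherent modules -/
abbrev QC (X : Scheme.{u}) : Type (u + 1) := (qcP X).FullSubcategory

variable {X : Scheme.{u}}
  [ObjectProperty.ContainsZero (qcP X)] [ObjectProperty.IsClosedUnderKernels (qcP X)]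
  [ObjectProperty.IsClosedUnderCokernels (qcP X)] [ObjectProperty.IsClosedUnderFiniteProducts (qcP X)]
  [PreservesFiniteLimits (ObjectProperty.ι (qcP X))] [PreservesFiniteColimits (ObjectProperty.ι (qcP X))]

variable (X) in
/-- the comparison functor -/
abbrev ιD : DerivedCategory (QC X) ⥤ DCoh.D X := (qcP X).ι.mapDerivedCategory

/-- `Y` receives the same maps before and after the comparison -/
def Good (Y : DerivedCategory (QC X)) : Prop :=
  ∀ M : DerivedCategory (QC X), Function.Bijective (fun φ : M ⟶ Y => (ιD X).map φ)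

lemma bijective_map_of_isIso_unit {C D : Type*} [Category C] [Category D] {L : C ⥤ D} {R : D ⥤ C} (adj : L ⊣ R)
    (Y : C) [IsIso (adj.unit.app Y)] (M : C) : Function.Bijective (fun f : M ⟶ Y => L.map f) := by
  have h : (adj.homEquiv M (L.obj Y)) ∘ (fun f : M ⟶ Y => L.map f) = fun f => f ≫ adj.unit.app Y := by
    funext f
    exact (adj.homEquiv_unit _ _ _).trans (adj.unit.naturality f).symm
  refine (Function.Bijective.of_comp_iff' (adj.homEquiv M (L.obj Y)).bijective _).1 ?_
  rw [h]
  exact ((asIso (adj.unit.app Y)).homToEquiv).bijective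

lemma isIso_unit_of_iso_obj {C D : Type*} [Category C] [Category D] {L : C ⥤ D} {R : D ⥤ C} (adj : L ⊣ R)
    [IsIso adj.counit] {Y : C} (W : D) (e : Y ≅ R.obj W) : IsIso (adj.unit.app Y) := by
  haveI : IsIso (adj.unit.app (R.obj W)) := isIso_of_comp_hom_eq_id (R.map (adj.counit.app W)) (adj.right_triangle_components W)
  have h : adj.unit.app Y = e.hom ≫ adj.unit.app (R.obj W) ≫ (L ⋙ R).map e.inv := by
    rw [← adj.unit.naturality e.inv]
    exact (e.hom_inv_id_assoc _).symm
  rw [h]
  infer_instance

variable {A : CommRingCat.{u}} (j : Spec A ⟶ X) [IsOpenImmersion j] [QuasiCompact j]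

lemma hasInj' (Y : Scheme.{u}) : HasInjectiveResolutions Y.Modules := DQPush.hasInj Y

/-- global sections over the affine open -/
def Lf : QC X ⥤ ModuleCat.{u} A := (qcP X).ι ⋙ Scheme.Modules.restrictFunctor j ⋙ moduleSpecΓFunctor (R := A)

/-- direct images from the affine open -/
def Jf : ModuleCat.{u} A ⥤ QC X :=
  ObjectProperty.lift (qcP X) (tilde.functor A ⋙ Scheme.Modules.pushforward j)
    fun M => @QC.isQCoh_pushforward _ _ _ (QC.isQCoh_tilde M) j _ _

/-- the restriction is the module of its global sections -/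
def comm₁ : (qcP X).ι ⋙ Scheme.Modules.restrictFunctor j ≅ Lf j ⋙ tilde.functor A :=
  (NatIso.ofComponents
    (fun M => @asIso _ _ _ _ ((Scheme.Modules.fromTildeΓNatTrans (R := A)).app
      ((Scheme.Modules.restrictFunctor j).obj M.obj)) (by
        haveI : ((Scheme.Modules.restrictFunctor j).obj M.obj).IsQuasicoherent := QC.isQCoh_restrict j M.property
        exact Scheme.Modules.isIso_fromTildeΓ_of_isQuasicoherent (R := A) ((Scheme.Modules.restrictFunctor j).obj M.obj)))
    fun f => (Scheme.Modules.fromTildeΓNatTrans (R := A)).naturality _).symm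

/-- the adjunction -/
def adjJ : Lf j ⊣ Jf j :=
  (Scheme.Modules.restrictAdjunction j).restrictFullyFaithful (qcP X).fullyFaithfulι
    (tilde.fullyFaithfulFunctor (R := A)) (comm₁ j) (Iso.refl _)

instance : (moduleSpecΓFunctor (R := A)).Additive := (tilde.adjunction (R := A)).right_adjoint_additive
instance : (moduleSpecΓFunctor (R := A)).PreservesZeroMorphisms :=
  @Functor.preservesZeroMorphisms_of_additive _ _ _ _ _ _ _ inferInstance
instance : (tilde.functor A).Additive := TildeKFlat.additive_tilde _
instance additive_tilde' : @Functor.Additive (ModuleCat.{u} A) (Spec A).Modules _ _ Abelian.toPreadditive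
    Abelian.toPreadditive (tilde.functor A) := TildeKFlat.additive_tilde _
instance : (Jf j).Additive where
  map_add {M N f g} := ObjectProperty.hom_ext _ (by
    show (Scheme.Modules.pushforward j).map ((tilde.functor A).map (f + g)) =
      (Scheme.Modules.pushforward j).map ((tilde.functor A).map f) + (Scheme.Modules.pushforward j).map ((tilde.functor A).map g)
    rw [Functor.map_add, Functor.map_add])
instance : (Lf j).Additive := (adjJ j).left_adjoint_additive
instance : @Functor.Additive (QC X) (Spec A).Modules _ _ _ Abelian.toPreadditive (Lf j ⋙ tilde.functor A) :=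
  inferInstance
instance : @Functor.PreservesZeroMorphisms (QC X) _ (Spec A).Modules _ _ Preadditive.preadditiveHasZeroMorphisms
    (Lf j ⋙ tilde.functor A) :=
  Functor.preservesZeroMorphisms_of_additive _
instance : PreservesFiniteColimits (Lf j) :=
  haveI := (adjJ j).leftAdjoint_preservesColimits
  inferInstance
instance : PreservesFiniteLimits (Lf j) := by
  haveI : PreservesFiniteLimits (moduleSpecΓFunctor (R := A)) :=
    haveI := (tilde.adjunction (R := A)).rightAdjoint_preservesLimits
    inferInstance
  unfold Lf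
  infer_instance
instance : PreservesFiniteLimits (tilde.functor A) := QC.tilde_preservesFiniteLimits
instance : PreservesFiniteColimits (tilde.functor A) := TildeKFlat.preservesFiniteColimits_tilde _

instance isIso_counit_adjJ (M : ModuleCat.{u} A) : IsIso ((adjJ j).counit.app M) := by
  haveI : IsIso ((tilde.functor A).map ((adjJ j).counit.app M)) := by
    rw [adjJ, Adjunction.map_restrictFullyFaithful_counit_app]
    infer_instance
  exact isIso_of_reflects_iso _ (tilde.functor A)

/-- restriction after comparison -/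
def sq : ιD X ⋙ RD j ≅ (Lf j).mapDerivedCategory ⋙ (tilde.functor A).mapDerivedCategory :=
  Localization.liftNatIso DerivedCategory.Q (HomologicalComplex.quasiIso (QC X) (ComplexShape.up ℤ))
    (DerivedCategory.Q ⋙ ιD X ⋙ RD j)
    (DerivedCategory.Q ⋙ (Lf j).mapDerivedCategory ⋙ (tilde.functor A).mapDerivedCategory) _ _
    ((Functor.associator _ _ _).symm ≪≫ Functor.isoWhiskerRight (qcP X).ι.mapDerivedCategoryFactors _ ≪≫
      Functor.associator _ _ _ ≪≫
      Functor.isoWhiskerLeft _ (Scheme.Modules.restrictFunctor j).mapDerivedCategoryFactors ≪≫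
      (Functor.associator _ _ _).symm ≪≫
      Functor.isoWhiskerRight (Functor.mapHomologicalComplexCompIso (Iso.refl _) _) _ ≪≫
      Functor.isoWhiskerRight (NatIso.mapHomologicalComplex (comm₁ j) (ComplexShape.up ℤ)) _ ≪≫
      Functor.isoWhiskerRight (Functor.mapHomologicalComplexCompIso (Iso.refl _) _).symm _ ≪≫
      Functor.associator _ _ _ ≪≫
      Functor.isoWhiskerLeft _ (tilde.functor A).mapDerivedCategoryFactors.symm ≪≫
      (Functor.associator _ _ _).symm ≪≫
      Functor.isoWhiskerRight (Lf j).mapDerivedCategoryFactors.symm _ ≪≫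
      Functor.associator _ _ _)

/-- injective modules give acyclic modules on the affine open -/
def Acyc : Prop :=
  ∀ I : ModuleCat.{u} A, Injective I → ∀ i : ℕ, 0 < i → IsZero ((Coh.Rpush j i).obj (tilde I))

variable [DCoh.HasRpush j] (hj : Acyc j)

include hj in
/-- direct images compute derived direct images -/
theorem nonempty_iso_rpush (I : CochainComplex (ModuleCat.{u} A) ℤ) (hI : ∀ n, Injective (I.X n))
    [CompactSpace X] :
    Nonempty ((ιD X).obj (DerivedCategory.Q.obj (((Jf j).mapHomologicalComplex (ComplexShape.up ℤ)).obj I)) ≅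
      (DCoh.Rpush j).obj (DerivedCategory.Q.obj (((tilde.functor A).mapHomologicalComplex (ComplexShape.up ℤ)).obj I))) := by
  haveI := hasInj' (Spec A)
  haveI := DQPush.isIso_unit_of_compact j (((tilde.functor A).mapHomologicalComplex (ComplexShape.up ℤ)).obj I)
    (fun n => QC.isQCoh_tilde (I.X n)) fun n i hi => hj _ (hI n) i hi
  exact ⟨(qcP X).ι.mapDerivedCategoryFactors.app _ ≪≫
    asIso ((DQPush.unitQ j).app (((tilde.functor A).mapHomologicalComplex (ComplexShape.up ℤ)).obj I))⟩

include hj in
/-- direct images from affine opens are good -/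
theorem good_J [CompactSpace X] (I : CochainComplex (ModuleCat.{u} A) ℤ) [I.IsKInjective]
    (hI : ∀ n, Injective (I.X n)) :
    Good (DerivedCategory.Q.obj (((Jf j).mapHomologicalComplex (ComplexShape.up ℤ)).obj I)) := fun M => by
  obtain ⟨hfull, hfaith, -⟩ := DQCoh.tildeD_affine (R := A)
  haveI : ((tilde.functor A).mapDerivedCategory).Full := hfull
  haveI : ((tilde.functor A).mapDerivedCategory).Faithful := hfaith
  obtain ⟨e⟩ := nonempty_iso_rpush j hj I hI
  set Y := DerivedCategory.Q.obj (((Jf j).mapHomologicalComplex (ComplexShape.up ℤ)).obj I)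
  haveI := isIso_unit_of_iso_obj (PerfGen.adjR j) _ e
  let P := (DerivedCategory.Q : _ ⥤ DerivedCategory (QC X)).objPreimage M
  let eM : DerivedCategory.Q.obj P ≅ M := DerivedCategory.Q.objObjPreimageIso M
  have h1 : Function.Bijective (fun φ : M ⟶ Y => (Lf j).mapDerivedCategory.map φ) := by
    have hb := bijective_mapDerived (Lf j) (Jf j) (adjJ j) P I
    have : (fun φ : M ⟶ Y => (Lf j).mapDerivedCategory.map φ) =
        (((Lf j).mapDerivedCategory.mapIso eM).homFromEquiv) ∘
          ((fun φ : DerivedCategory.Q.obj P ⟶ Y => (Lf j).mapDerivedCategory.map φ) ∘ eM.homFromEquiv.symm) := by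
      funext φ
      simp
    rw [this]
    exact ((Lf j).mapDerivedCategory.mapIso eM).homFromEquiv.bijective.comp (hb.comp eM.homFromEquiv.symm.bijective)
  have h2 : Function.Bijective ((fun ψ => (RD j).map ψ) ∘ fun φ : M ⟶ Y => (ιD X).map φ) := by
    have : ((fun ψ => (RD j).map ψ) ∘ fun φ : M ⟶ Y => (ιD X).map φ) =
        (Iso.homCongr ((sq j).app M).symm ((sq j).app Y).symm) ∘
          ((fun ψ => (tilde.functor A).mapDerivedCategory.map ψ) ∘
            fun φ : M ⟶ Y => (Lf j).mapDerivedCategory.map φ) := by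
      funext φ
      simp only [Function.comp_apply, Iso.homCongr_apply, Iso.symm_inv, Iso.symm_hom, Iso.app_hom, Iso.app_inv]
      exact ((Iso.hom_inv_id_app_assoc (sq j) M _).symm.trans (congrArg ((sq j).hom.app M ≫ ·)
        ((sq j).inv.naturality φ).symm))
    rw [this]
    exact (Equiv.bijective _).comp ((Functor.FullyFaithful.ofFullyFaithful _).homEquiv.bijective.comp h1)
  exact (Function.Bijective.of_comp_iff' (bijective_map_of_isIso_unit (PerfGen.adjR j) ((ιD X).obj Y) _) _).1 h2

include hj in
/-- approximating by a good object near the affine open -/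
theorem exists_local [CompactSpace X] (N : DerivedCategory (QC X)) :
    ∃ (Y : DerivedCategory (QC X)) (η : N ⟶ Y), Good Y ∧ IsIso ((RD j).map ((ιD X).map η)) ∧
      Nonempty ((ιD X).obj Y ≅ (DCoh.Rpush j).obj ((RD j).obj ((ιD X).obj N))) := by
  let P := (DerivedCategory.Q : _ ⥤ DerivedCategory (QC X)).objPreimage N
  let eN : DerivedCategory.Q.obj P ≅ N := DerivedCategory.Q.objObjPreimageIso N
  obtain ⟨I, q, hIK, hq, -, hI⟩ :=
    KInj.exists_kInjective (((Lf j).mapHomologicalComplex (ComplexShape.up ℤ)).obj P)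
  haveI := hIK
  haveI := hq
  let a := KInj.mapHomologicalComplexAdj (adjJ j) (ComplexShape.up ℤ)
  let f := a.homEquiv P I q
  let εI : ((Lf j).mapHomologicalComplex (ComplexShape.up ℤ)).obj
      (((Jf j).mapHomologicalComplex (ComplexShape.up ℤ)).obj I) ⟶ I := a.counit.app I
  haveI : ∀ i, IsIso (εI.f i) := fun i => inferInstanceAs (IsIso ((adjJ j).counit.app (I.X i)))
  haveI : IsIso εI := Hom.isIso_of_components εI
  haveI : QuasiIso (((Lf j).mapHomologicalComplex (ComplexShape.up ℤ)).map f) := by
    haveI : QuasiIso (((Lf j).mapHomologicalComplex (ComplexShape.up ℤ)).map f ≫ εI) := by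
      rw [show ((Lf j).mapHomologicalComplex (ComplexShape.up ℤ)).map f ≫ εI = q from
        (a.homEquiv_counit _ _ _).symm.trans ((a.homEquiv P I).symm_apply_apply q)]
      exact hq
    exact quasiIso_of_comp_right _ εI
  haveI : IsIso ((Lf j).mapDerivedCategory.map (DerivedCategory.Q.map f)) :=
    (NatIso.isIso_map_iff (Lf j).mapDerivedCategoryFactors f).2
      ((DerivedCategory.isIso_Q_map_iff_quasiIso _ _).2 inferInstance)
  let Y := DerivedCategory.Q.obj (((Jf j).mapHomologicalComplex (ComplexShape.up ℤ)).obj I)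
  have hη : IsIso ((RD j).map ((ιD X).map (eN.inv ≫ DerivedCategory.Q.map f))) :=
    (NatIso.isIso_map_iff (sq j) (eN.inv ≫ DerivedCategory.Q.map f)).2 (by
      change IsIso ((tilde.functor A).mapDerivedCategory.map ((Lf j).mapDerivedCategory.map _))
      rw [Functor.map_comp, Functor.map_comp]
      infer_instance)
  obtain ⟨e⟩ := nonempty_iso_rpush j hj I hI
  exact ⟨Y, eN.inv ≫ DerivedCategory.Q.map f, good_J j hj I hI, hη,
    ⟨e ≪≫ (DCoh.Rpush j).mapIso ((asIso ((PerfGen.adjR j).counit.app _)).symm ≪≫ (RD j).mapIso e.symm ≪≫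
      (@asIso _ _ _ _ _ hη).symm)⟩⟩

include hj in
/-- direct images of restrictions are in the image -/
theorem exists_ess [CompactSpace X] (K : DCoh.D X) (hK : DCoh.IsQCohD K) :
    ∃ Y : DerivedCategory (QC X), Nonempty ((ιD X).obj Y ≅ (DCoh.Rpush j).obj ((RD j).obj K)) := by
  obtain ⟨M, ⟨eM⟩⟩ := ((DQCoh.tildeD_affine (R := A)).2.2 _).1 (PerfGen.isQCohD_RD j hK)
  let P := (DerivedCategory.Q : _ ⥤ DerivedCategory (ModuleCat.{u} A)).objPreimage M
  obtain ⟨I, q, hIK, hq, -, hI⟩ := KInj.exists_kInjective P
  haveI := (DerivedCategory.isIso_Q_map_iff_quasiIso _ q).2 hq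
  obtain ⟨e⟩ := nonempty_iso_rpush j hj I hI
  exact ⟨_, ⟨e ≪≫ (DCoh.Rpush j).mapIso (((tilde.functor A).mapDerivedCategoryFactors.app I).symm ≪≫
    (tilde.functor A).mapDerivedCategory.mapIso
      ((asIso (DerivedCategory.Q.map q)).symm ≪≫ DerivedCategory.Q.objObjPreimageIso M) ≪≫ eM)⟩⟩

end Groth.Agent.DerQC
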