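import Groth.Agent.DerQC.Local
import Groth.Agent.PerfGen.Extend
import Mathlib.CategoryTheory.Triangulated.Subcategory

/-!
`D(QCoh X) ⥤ D(X)` is fully faithful with essential image the objects with quasi-coherent cohomology.
-/

set_option autoImplicit false
set_option backward.isDefEq.respectTransparency false
set_option backward.isDefEq.respectTransparency.types false
set_option linter.style.haveILetI false
set_option linter.unusedSectionVars false
set_option maxHeartbeats 1000000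

universe u

open CategoryTheory Limits Pretriangulated AlgebraicGeometry

attribute [local instance] HasDerivedCategory.standard

noncomputable section

namespace Groth.Agent.DerQC

open Groth.Agent.DQCoh (RD)

variable {X : Scheme.{u}}
  [ObjectProperty.ContainsZero (qcP X)] [ObjectProperty.IsClosedUnderKernels (qcP X)]
  [ObjectProperty.IsClosedUnderCokernels (qcP X)] [ObjectProperty.IsClosedUnderFiniteProducts (qcP X)]
  [PreservesFiniteLimits (ObjectProperty.ι (qcP X))] [PreservesFiniteColimits (ObjectProperty.ι (qcP X))]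

lemma good_of_iso {Y Y' : DerivedCategory (QC X)} (e : Y ≅ Y') (h : Good Y) : Good Y' := fun M => by
  have : (fun φ : M ⟶ Y' => (ιD X).map φ) =
      ((ιD X).mapIso e).homToEquiv ∘ ((fun φ : M ⟶ Y => (ιD X).map φ) ∘ e.homToEquiv.symm) := by
    funext φ
    simp
  rw [this]
  exact (Equiv.bijective _).comp ((h M).comp (Equiv.bijective _))

lemma good_shift {Y : DerivedCategory (QC X)} (h : Good Y) (n : ℤ) : Good (Y⟦n⟧) := fun M => by
  let F := shiftFunctor (DerivedCategory (QC X)) n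
  let G := shiftFunctor (DCoh.D X) n
  let eM : F.obj (M⟦-n⟧) ≅ M := (shiftEquiv (DerivedCategory (QC X)) n).counitIso.app M
  let c := (ιD X).commShiftIso n
  have : (fun φ : M ⟶ Y⟦n⟧ => (ιD X).map φ) =
      (((ιD X).mapIso eM).homFromEquiv) ∘ ((Iso.homCongr (c.app (M⟦-n⟧)).symm (c.app Y).symm) ∘
        ((fun ψ => G.map ψ) ∘ ((fun φ : M⟦-n⟧ ⟶ Y => (ιD X).map φ) ∘
          (Functor.FullyFaithful.ofFullyFaithful F).homEquiv.symm ∘ eM.homFromEquiv.symm))) := by
    funext φ
    obtain ⟨φ', hφ'⟩ : ∃ φ', F.map φ' = eM.hom ≫ φ := F.map_surjective _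
    have h₁ : (Functor.FullyFaithful.ofFullyFaithful F).homEquiv.symm (eM.homFromEquiv.symm φ) = φ' := by
      rw [Equiv.symm_apply_eq]
      exact hφ'.symm
    simp only [Function.comp_apply, h₁, Iso.homCongr_apply, Iso.symm_inv, Iso.symm_hom, Iso.app_hom, Iso.app_inv]
    have h₂ : c.hom.app (M⟦-n⟧) ≫ G.map ((ιD X).map φ') ≫ c.inv.app Y = (ιD X).map (eM.hom ≫ φ) := by
      rw [← hφ']
      exact ((Iso.hom_inv_id_app_assoc c _ _).symm.trans (congrArg (c.hom.app _ ≫ ·)
        (c.inv.naturality φ').symm)).symm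
    rw [h₂, Functor.map_comp]
    simp
  rw [this]
  exact (Equiv.bijective _).comp ((Equiv.bijective _).comp
    ((Functor.FullyFaithful.ofFullyFaithful G).homEquiv.bijective.comp
      ((h _).comp ((Equiv.bijective _).comp (Equiv.bijective _)))))

lemma good_obj₂ (T : Triangle (DerivedCategory (QC X))) (hT : T ∈ distTriang _) (h₁ : Good T.obj₁)
    (h₃ : Good T.obj₃) : Good T.obj₂ := by
  have hT' := (ιD X).map_distinguished _ hT
  have hi := inv_rot_of_distTriang _ hT
  have h₁' : Good (T.obj₁⟦(1 : ℤ)⟧) := good_shift h₁ 1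
  have h₀ : Good T.invRotate.obj₁ := good_shift h₃ (-1)
  intro M
  refine ⟨?_, fun ψ => ?_⟩
  · suffices key : ∀ φ : M ⟶ T.obj₂, (ιD X).map φ = 0 → φ = 0 by
      intro φ φ' h
      exact sub_eq_zero.1 (key _ (by rw [Functor.map_sub, sub_eq_zero]; exact h))
    intro φ hφ
    have h3 : φ ≫ T.mor₂ = 0 :=
      (h₃ M).1 (by simp only [Functor.map_comp, Functor.map_zero, hφ, zero_comp])
    obtain ⟨χ, rfl⟩ := Triangle.coyoneda_exact₂ _ hT φ h3
    obtain ⟨ω, hω⟩ := Triangle.coyoneda_exact₂ _ ((ιD X).map_distinguished _ hi) ((ιD X).map χ)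
      (((ιD X).map_comp χ T.mor₁).symm.trans hφ)
    obtain ⟨ω', hω'⟩ := (h₀ M).2 ω
    have hχ : χ = ω' ≫ T.invRotate.mor₁ := (h₁ M).1 (by
      simp only [Functor.map_comp]
      exact hω.trans (congrArg (· ≫ _) hω'.symm))
    rw [hχ, Category.assoc]
    exact (congrArg (ω' ≫ ·) (comp_distTriang_mor_zero₁₂ _ hi)).trans comp_zero
  · obtain ⟨φY, hφY⟩ := (h₃ M).2 (ψ ≫ (ιD X).map T.mor₂)
    simp only at hφY
    have h0 : φY ≫ T.mor₃ = 0 := (h₁' M).1 (by
      simp only [Functor.map_comp, Functor.map_zero, hφY, Category.assoc]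
      rw [← Functor.map_comp, comp_distTriang_mor_zero₂₃ _ hT, Functor.map_zero, comp_zero])
    obtain ⟨φN, rfl⟩ := Triangle.coyoneda_exact₃ _ hT φY h0
    obtain ⟨ω, hω⟩ := Triangle.coyoneda_exact₂ _ hT' (ψ - (ιD X).map φN) (by
      refine (Preadditive.sub_comp _ _ _).trans (sub_eq_zero.2 ?_)
      exact hφY.symm.trans ((ιD X).map_comp φN T.mor₂))
    obtain ⟨ω', hω'⟩ := (h₁ M).2 ω
    refine ⟨φN + ω' ≫ T.mor₁, ?_⟩
    have : ψ = (ιD X).map φN + ω ≫ (ιD X).map T.mor₁ := eq_add_of_sub_eq' hω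
    simp only at hω'
    simp only [Functor.map_add, Functor.map_comp, hω', this]

lemma isZero_of_isZero_ιD {N : DerivedCategory (QC X)} (h : IsZero ((ιD X).obj N)) : IsZero N := by
  rw [IsZero.iff_id_eq_zero]
  haveI : IsIso (0 : N ⟶ N) := by
    rw [DerivedCategory.isIso_iff]
    intro i
    have h1 : IsZero ((qcP X).ι.obj ((DerivedCategory.homologyFunctor (QC X) i).obj N)) :=
      ((DerivedCategory.homologyFunctor X.Modules i).map_isZero h).of_iso
        ((DQCoh.homologyDerIso (qcP X).ι i).app N).symm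
    have hz : IsZero ((DerivedCategory.homologyFunctor (QC X) i).obj N) :=
      (IsZero.iff_id_eq_zero _).2 ((qcP X).ι.map_injective (h1.eq_of_src _ _))
    exact hz.isIso hz _
  have h0 := IsIso.hom_inv_id (0 : N ⟶ N)
  rw [zero_comp] at h0
  exact h0.symm

lemma isQCohD_ιD (N : DerivedCategory (QC X)) : DCoh.IsQCohD ((ιD X).obj N) := fun i =>
  QC.isQCoh_of_iso ((DQCoh.homologyDerIso (qcP X).ι i).app N).symm
    ((DerivedCategory.homologyFunctor (QC X) i).obj N).property

/-- the hypothesis on affine opens -/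
def HypAff (X : Scheme.{u}) : Prop :=
  ∀ (U : X.Opens) (hU : IsAffineOpen U), ∃ _ : QuasiCompact hU.fromSpec, Acyc hU.fromSpec

lemma suppD_diff (U : X.Opens) (hU : IsAffineOpen U) {T : Set X} {E : DCoh.D X} (h : PerfGen.SuppD T E)
    (h' : IsZero ((RD hU.fromSpec).obj E)) : PerfGen.SuppD (T \ U) E := by
  have := PerfGen.suppD_inter h ((PerfGen.isZero_RD_iff _ E).1 h')
  rwa [hU.range_fromSpec, ← Set.diff_eq] at this

theorem good_of_supp [CompactSpace X] (H : HypAff X) (L : List X.affineOpens) :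
    ∀ (T : Set X), IsClosed T → (T ⊆ ⋃ U ∈ L, ((U.1 : X.Opens) : Set X)) →
      ∀ N : DerivedCategory (QC X), PerfGen.SuppD T ((ιD X).obj N) → Good N := by
  induction L with
  | nil =>
    intro T hT hsub N hN M
    have hz : IsZero ((ιD X).obj N) := PerfGen.isZero_of_suppD_empty (PerfGen.suppD_mono (by simpa using hsub) hN)
    exact ⟨fun a b _ => (isZero_of_isZero_ιD hz).eq_of_tgt a b,
      fun ψ => ⟨0, hz.eq_of_tgt _ _⟩⟩
  | cons U L ih =>
    intro T hT hsub N hN
    obtain ⟨hqc, hac⟩ := H U.1 U.2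
    obtain ⟨Y, η, hY, hη, ⟨eY⟩⟩ := exists_local U.2.fromSpec hac N
    have hYs : PerfGen.SuppD T ((ιD X).obj Y) :=
      PerfGen.suppD_of_iso eY.symm (PerfGen.suppD_rpush _ hT (PerfGen.suppD_RD _ hN))
    obtain ⟨C, g, h, hTr⟩ := distinguished_cocone_triangle η
    have hTr' := (ιD X).map_distinguished _ hTr
    have hC : PerfGen.SuppD T ((ιD X).obj C) :=
      (PerfGen.isZero_RD_of_compl hT _).2 (Triangle.isZero₃_of_isZero₁₂ _ ((RD _).map_distinguished _ hTr')
        ((PerfGen.isZero_RD_of_compl hT _).1 hN) ((PerfGen.isZero_RD_of_compl hT _).1 hYs))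
    have hC0 : IsZero ((RD U.2.fromSpec).obj ((ιD X).obj C)) :=
      (Triangle.isZero₃_iff_isIso₁ _ ((RD U.2.fromSpec).map_distinguished _ hTr')).2 hη
    have hCg : Good C := ih (T \ (U.1 : Set X)) (hT.sdiff U.1.2) (fun x hx => by
      have := hsub hx.1
      simp only [List.mem_cons, Set.mem_iUnion, exists_prop] at this ⊢
      obtain ⟨V, rfl | hV, hxV⟩ := this
      · exact absurd hxV hx.2
      · exact ⟨V, hV, hxV⟩) C (suppD_diff U.1 U.2 hC hC0)
    exact good_obj₂ _ (inv_rot_of_distTriang _ hTr) (good_shift hCg (-1)) hY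

theorem mem_essImage_of_supp [CompactSpace X] [(ιD X).Full] (H : HypAff X) (L : List X.affineOpens) :
    ∀ (T : Set X), IsClosed T → (T ⊆ ⋃ U ∈ L, ((U.1 : X.Opens) : Set X)) →
      ∀ K : DCoh.D X, DCoh.IsQCohD K → PerfGen.SuppD T K → (ιD X).essImage K := by
  induction L with
  | nil =>
    intro T hT hsub K _ hK
    exact (ιD X).essImage.prop_of_isZero (PerfGen.isZero_of_suppD_empty (PerfGen.suppD_mono (by simpa using hsub) hK))
  | cons U L ih =>
    intro T hT hsub K hq hK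
    obtain ⟨hqc, hac⟩ := H U.1 U.2
    obtain ⟨Y, ⟨eY⟩⟩ := exists_ess U.2.fromSpec hac K hq
    let R := (DCoh.Rpush U.2.fromSpec).obj ((RD U.2.fromSpec).obj K)
    have hRs : PerfGen.SuppD T R := PerfGen.suppD_rpush _ hT (PerfGen.suppD_RD _ hK)
    obtain ⟨C, g, h, hTr⟩ := distinguished_cocone_triangle ((PerfGen.adjR U.2.fromSpec).unit.app K)
    have hC : PerfGen.SuppD T C :=
      (PerfGen.isZero_RD_of_compl hT _).2 (Triangle.isZero₃_of_isZero₁₂ _ ((RD _).map_distinguished _ hTr)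
        ((PerfGen.isZero_RD_of_compl hT _).1 hK) ((PerfGen.isZero_RD_of_compl hT _).1 hRs))
    have hC0 : IsZero ((RD U.2.fromSpec).obj C) :=
      (Triangle.isZero₃_iff_isIso₁ _ ((RD U.2.fromSpec).map_distinguished _ hTr)).2
        (PerfGen.isIso_map_unit_adjR _ K)
    have hCq : DCoh.IsQCohD C := PerfGen.isQCohD_obj₃ _ hTr hq
      (DQPush.isQCohD_rpush _ (PerfGen.isQCohD_RD _ hq))
    have hCe : (ιD X).essImage C := ih (T \ (U.1 : Set X)) (hT.sdiff U.1.2) (fun x hx => by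
      have := hsub hx.1
      simp only [List.mem_cons, Set.mem_iUnion, exists_prop] at this ⊢
      obtain ⟨V, rfl | hV, hxV⟩ := this
      · exact absurd hxV hx.2
      · exact ⟨V, hV, hxV⟩) C hCq (suppD_diff U.1 U.2 hC hC0)
    have hRe : (ιD X).essImage R := ⟨Y, ⟨eY⟩⟩
    exact (ιD X).essImage.ext_of_isTriangulatedClosed₁ _ hTr hRe hCe

theorem main [CompactSpace X] (H : HypAff X) :
    (ιD X).Full ∧ (ιD X).Faithful ∧ ∀ K : DCoh.D X, DCoh.IsQCohD K ↔ ∃ M, Nonempty ((ιD X).obj M ≅ K) := by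
  obtain ⟨t, ht⟩ := (isCompact_univ (X := X)).elim_finite_subcover (fun U : X.affineOpens => ((U.1 : X.Opens) : Set X))
    (fun U => U.1.2) (fun x _ => by
      obtain ⟨_, ⟨(V : X.Opens), hV, rfl⟩, hxV, -⟩ :=
        X.isBasis_affineOpens.exists_subset_of_mem_open (Set.mem_univ x) isOpen_univ
      exact Set.mem_iUnion.2 ⟨⟨V, hV⟩, hxV⟩)
  have hcov : Set.univ ⊆ ⋃ U ∈ t.toList, ((U.1 : X.Opens) : Set X) := by simpa using ht
  have hg : ∀ N : DerivedCategory (QC X), Good N := fun N =>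
    good_of_supp H _ _ isClosed_univ hcov N (PerfGen.suppD_univ _)
  haveI hF : (ιD X).Full := ⟨fun {M N} => (hg N M).2⟩
  refine ⟨hF, ⟨fun {M N} => (hg N M).1⟩, fun K => ⟨fun hK => ?_, fun ⟨M, ⟨e⟩⟩ =>
    PerfGen.isQCohD_of_iso e (isQCohD_ιD M)⟩⟩
  obtain ⟨M, ⟨e⟩⟩ := mem_essImage_of_supp H _ _ isClosed_univ hcov K hK (PerfGen.suppD_univ _)
  exact ⟨M, ⟨e⟩⟩

end Groth.Agent.DerQC
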