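import Groth.Agent.DerQC.Hyp
import Groth.Agent.AcycDef.Acyclic
import Groth.Agent.PClassRes.Basic
import Groth.Agent.W7Hull.QCoh
import Groth.Agent.CohQC.Push

/-!
`f_* : D(QCoh X) ⥤ D(QCoh Y)` agrees with `Rf_*`.
-/

set_option autoImplicit false
set_option backward.isDefEq.respectTransparency false
set_option backward.isDefEq.respectTransparency.types false
set_option linter.style.haveILetI false
set_option linter.unusedSectionVars false
set_option maxHeartbeats 1000000

universe u

open CategoryTheory Limits AlgebraicGeometry Opposite TopologicalSpace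

attribute [local instance] HasDerivedCategory.standard
attribute [local instance] Abelian.hasFiniteBiproducts

noncomputable section

namespace Groth.Agent.DerQC

section General

variable {C D H H' : Type*} [Category* C] [Category* D] [Category* H] [Category* H'] {L : C ⥤ D} {F : C ⥤ H}
  {P : ObjectProperty C}

lemma isDef_comp (h : AcycDef.IsDef L F P) (T : H ⥤ H') : AcycDef.IsDef L (F ⋙ T) P where
  roof hI g := by
    obtain ⟨J, f, s, hJ, h1, h2, e⟩ := h.roof hI g
    exact ⟨J, f, s, hJ, h1, inferInstanceAs (IsIso (T.map (F.map s))), e⟩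
  wd f g hI e := congrArg T.map (h.wd f g hI e)
  res := h.res

variable (W : MorphismProperty C) [L.IsLocalization W]

lemma isRightDerivedFunctor_of_isDef (h : AcycDef.IsDef L F P) (RF : D ⥤ H) (α : F ⟶ L ⋙ RF)
    (hα : ∀ I, P I → IsIso (α.app I)) : RF.IsRightDerivedFunctor α W where
  isLeftKanExtension := by
    suffices hE : (Functor.LeftExtension.mk RF α).IsPointwiseLeftKanExtension from
      hE.isLeftKanExtension
    intro d
    let I := (h.res d).choose
    have hI : P I := (h.res d).choose_spec.1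
    let e : d ≅ L.obj I := (h.res d).choose_spec.2.some
    refine (Functor.LeftExtension.isPointwiseLeftKanExtensionAtEquivOfIso' _ e.symm) ?_
    have := hα I hI
    refine (h.isColimitCocone hI).ofIsoColimit
      (Cocone.ext (@asIso _ _ _ _ (α.app I) this) fun j => ?_)
    show h.lift hI j.hom ≫ α.app I = α.app j.left ≫ RF.map j.hom
    obtain ⟨J, f, s, hJ, hs1, hs2, e⟩ := h.roof hI j.hom
    rw [h.lift_eq hI j.hom f s hJ e, ← cancel_mono (RF.map (L.map s))]
    refine Eq.trans ?_ ((Category.assoc _ _ _).trans ((congrArg (α.app j.left ≫ ·) ((RF.map_comp _ _).symm.trans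
      (congrArg RF.map e))))).symm
    have n1 := α.naturality f
    have n2 := α.naturality s
    simp only [Functor.comp_map] at n1 n2
    rw [← n1, Category.assoc, Category.assoc, ← n2, IsIso.inv_hom_id_assoc]

/-- derived functors compared on a computing class -/
theorem nonempty_iso_of_isDef (h : AcycDef.IsDef L F P) (RF : D ⥤ H) (α : F ⟶ L ⋙ RF)
    [RF.IsRightDerivedFunctor α W] (T : H ⥤ H') (G : D ⥤ H') (β : F ⋙ T ⟶ L ⋙ G)
    (hβ : ∀ I, P I → IsIso (β.app I)) : Nonempty (RF ⋙ T ≅ G) := by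
  let α' : F ⋙ T ⟶ L ⋙ RF ⋙ T := Functor.whiskerRight α T ≫ (Functor.associator _ _ _).hom
  haveI : (RF ⋙ T).IsRightDerivedFunctor α' W :=
    isRightDerivedFunctor_of_isDef W (isDef_comp h T) _ _ fun I hI => by
      have := h.isIso_app W RF α hI
      simp only [α', NatTrans.comp_app, Functor.associator_hom_app, Functor.whiskerRight_app]
      infer_instance
  haveI : G.IsRightDerivedFunctor β W := isRightDerivedFunctor_of_isDef W (isDef_comp h T) _ _ hβ
  exact ⟨(RF ⋙ T).rightDerivedUnique G α' β W⟩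

end General

variable {X Y : Scheme.{u}}

/-- morphisms from affine schemes to schemes with affine diagonal are affine -/
lemma isAffineHom_to {V : Scheme.{u}} [IsAffine V]
    (hdY : ∀ U V : Y.Opens, IsAffineOpen U → IsAffineOpen V → IsAffineOpen (U ⊓ V)) (h : V ⟶ Y) : IsAffineHom h := by
  haveI : IsAffineHom (pullback.diagonal (terminal.from Y)) :=
    isAffineHom_diagonal_iff.2 fun _ _ U _ V _ hU hV => hdY U V hU hV
  haveI : MorphismProperty.HasOfPostcompProperty @IsAffineHom (MorphismProperty.diagonal @IsAffineHom) :=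
    MorphismProperty.hasOfPostcompProperty_iff_le_diagonal.mpr le_rfl
  exact MorphismProperty.of_postcomp (W := @IsAffineHom) (W' := MorphismProperty.diagonal @IsAffineHom) h
    (terminal.from Y) ‹_› (inferInstanceAs (IsAffineHom (h ≫ terminal.from Y)))

lemma quasiSeparatedSpace_of_diag (hd : ∀ U V : X.Opens, IsAffineOpen U → IsAffineOpen V → IsAffineOpen (U ⊓ V)) :
    QuasiSeparatedSpace X :=
  (AlgebraicGeometry.quasiSeparatedSpace_iff_forall_affineOpens).2 fun U V => (hd U.1 V.1 U.2 V.2).isCompact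

/-- acyclicity for `f_*` -/
abbrev Ac [HasInjectiveResolutions X.Modules] (f : X ⟶ Y) : ObjectProperty X.Modules :=
  AcycDef.Acyc (Scheme.Modules.pushforward f)

/-- enough quasi-coherent acyclic modules -/
def EmbAc [HasInjectiveResolutions X.Modules] (f : X ⟶ Y) : Prop :=
  ∀ M : X.Modules, Coh.IsQCoh M → ∃ (N : X.Modules) (i : M ⟶ N), Mono i ∧ Coh.IsQCoh N ∧ Ac f N

lemma isZero_rpush_of_locKilled [HasInjectiveResolutions X.Modules] (f : X ⟶ Y) (M : X.Modules) {i : ℕ}
    (h : SiteCoh.LocKilled (Opens.grothendieckTopology Y) (Opens.map f.base) (Coh.toAb M) i) :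
    IsZero ((Coh.Rpush f i).obj M) := by
  obtain ⟨e⟩ := CohQC.toAb_rpush_iso f M i
  exact CohQC.isZero_of_isZero_toAb ((SiteCoh.isZero_rpush_of_locKilled (K := _) (u := Opens.map f.base) h).of_iso e)

theorem embAc_of_noetherian [IsNoetherian X] [HasInjectiveResolutions X.Modules] (f : X ⟶ Y) : EmbAc f :=
  fun M hM => by
    obtain ⟨A, j, hA, hj, hq⟩ := W7Hull.exists_qcoh_injective M hM
    exact ⟨A, j, hj, hq, AcycDef.acyc_injective _ A⟩

theorem embAc_of_diag [CompactSpace X] [HasInjectiveResolutions X.Modules] (f : X ⟶ Y)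
    (hdX : ∀ U V : X.Opens, IsAffineOpen U → IsAffineOpen V → IsAffineOpen (U ⊓ V))
    (hdY : ∀ U V : Y.Opens, IsAffineOpen U → IsAffineOpen V → IsAffineOpen (U ⊓ V)) : EmbAc f := fun M hM => by
  haveI : M.IsQuasicoherent := hM
  obtain ⟨ι, hι, U, hU, -, hcov⟩ := QC.exists_finite_affine_cover (X := X) (W := ⊤) (by simpa using isCompact_univ)
  have hι' : Finite ι := Finite.of_fintype _
  let e := Fintype.equivFin ι
  let V : Fin (Fintype.card ι) → X.Opens := fun k => U (e.symm k)
  have hV : ∀ k, IsAffineOpen (V k) := fun k => hU _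
  have haff : ∀ k, IsAffineHom (V k).ι := fun k => CohQC.isAffineHom_ι hdX (hV k)
  let N : Fin (Fintype.card ι) → X.Modules := fun k => (Coh.push (V k).ι).obj (M.restrict (V k).ι)
  have hN : ∀ k, Coh.IsQCoh (N k) := fun k => QC.isQCoh_pushforward (V k).ι
  let u : ∀ k, M ⟶ N k := fun k => (Scheme.Modules.restrictAdjunction (V k).ι).unit.app M
  have hac : ∀ k, Ac f (N k) := fun k i hi => by
    haveI := haff k
    haveI : IsAffine (V k).toScheme := hV k
    haveI := isAffineHom_to hdY ((V k).ι ≫ f)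
    refine isZero_rpush_of_locKilled f _ (CohQC.locKilled_of_basis f.base _ i {W | IsAffineOpen (X := Y) W}
      (fun V y hy => CohQC.exists_affine_le V y hy) fun W hW => ?_)
    obtain ⟨q, rfl⟩ : ∃ q, i = q + 1 := ⟨i - 1, by omega⟩
    exact CohQC.hu_push_vanish (V k).ι (M.restrict (V k).ι) (f ⁻¹ᵁ W) (hW.preimage ((V k).ι ≫ f)) q
  refine ⟨⨁ N, biproduct.lift u, ?_, ?_, fun i hi => ?_⟩
  · refine (QC.mono_iff_app_injective _).mpr fun W s t hst => QC.section_eq_of_locally fun x hx => ?_
    obtain ⟨i, hi⟩ := hcov x trivial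
    obtain ⟨k, rfl⟩ : ∃ k, e.symm k = i := e.symm.surjective i
    refine ⟨V k ⊓ W, inf_le_right, ⟨hi, hx⟩, ?_⟩
    have hk : (u k).app W s = (u k).app W t := by
      have := congr_arg ((biproduct.π N k).app W) hst
      rwa [← ConcreteCategory.comp_apply, ← Scheme.Modules.Hom.comp_app, biproduct.lift_π,
        ← ConcreteCategory.comp_apply, ← Scheme.Modules.Hom.comp_app, biproduct.lift_π] at this
    have key : ∀ s : Γ(M, W), (u k).app W s = QC.res M ((V k).ι.image_preimage_le W) s := fun s => rfl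
    rw [key, key] at hk
    have hle : V k ⊓ W ≤ (V k).ι ''ᵁ (V k).ι ⁻¹ᵁ W := by
      rw [Scheme.Hom.image_preimage_eq_opensRange_inf, Scheme.Opens.opensRange_ι]
    have := congr_arg (QC.res M hle) hk
    rwa [QC.res_res, QC.res_res] at this
  · exact QC.isQCoh_of_iso (biproduct.isoCoproduct N ≪≫
      (Sigma.whiskerEquiv (g := fun k : ULift.{u} (Fin (Fintype.card ι)) => N k.down) Equiv.ulift.symm
        (fun _ => Iso.refl _))).symm (QC.isQCoh_colimit (Discrete.functor _) fun j => hN j.as.down)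
  · rw [IsZero.iff_id_eq_zero, ← ((Scheme.Modules.pushforward f).rightDerived i).map_id, ← biproduct.total,
      Functor.map_sum]
    refine Finset.sum_eq_zero fun k _ => ?_
    rw [Functor.map_comp, (hac k i hi).eq_of_tgt (((Scheme.Modules.pushforward f).rightDerived i).map (biproduct.π N k)) 0,
      zero_comp]

/-- vanishing above a degree -/
theorem exists_bound_rpush [CompactSpace Y] [HasInjectiveResolutions X.Modules] (f : X ⟶ Y) [QuasiCompact f]
    [QuasiSeparated f] : ∃ n : ℕ, ∀ M : X.Modules, Coh.IsQCoh M → ∀ i : ℕ, n ≤ i →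
      IsZero (((Scheme.Modules.pushforward f).rightDerived i).obj M) := by
  obtain ⟨n, hn⟩ := CohQC.exists_locKilled_bound f
  exact ⟨n, fun M hM i hi => isZero_rpush_of_locKilled f M (hn M hM i hi)⟩

variable [ObjectProperty.ContainsZero (qcP X)] [ObjectProperty.IsClosedUnderKernels (qcP X)]
  [ObjectProperty.IsClosedUnderCokernels (qcP X)] [ObjectProperty.IsClosedUnderFiniteProducts (qcP X)]
  [PreservesFiniteLimits (ObjectProperty.ι (qcP X))] [PreservesFiniteColimits (ObjectProperty.ι (qcP X))]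

/-- resolutions by quasi-coherent acyclic modules -/
theorem exists_resolution [HasInjectiveResolutions X.Modules] (f : X ⟶ Y) (hE : EmbAc f) (n : ℕ)
    (hn : ∀ M : X.Modules, Coh.IsQCoh M → ∀ i : ℕ, n ≤ i →
      IsZero (((Scheme.Modules.pushforward f).rightDerived i).obj M)) (K : CochainComplex (QC X) ℤ) :
    ∃ (I : CochainComplex (QC X) ℤ) (s : K ⟶ I), QuasiIso s ∧ ∀ k : ℤ, Ac f (I.X k).obj := by
  let P : ObjectProperty (QC X) := fun M => Ac f M.obj
  let F := Scheme.Modules.pushforward f
  have hext : ∀ {U V W : QC X} (a : U ⟶ V) (b : V ⟶ W) (w : a ≫ b = 0),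
      (ShortComplex.mk a b w).ShortExact → P U → P W → P V := fun a b w hS hU hW =>
    (AcycDef.acyc_iff F (hS.map_of_exact (qcP X).ι) hU).2 hW
  have hmono : ∀ M : QC X, ∃ (N : QC X) (i : M ⟶ N), P N ∧ Mono i := fun M => by
    obtain ⟨N, i, hi, hq, ha⟩ := hE M.obj M.property
    let i' : M ⟶ (⟨N, hq⟩ : QC X) := ObjectProperty.homMk i
    exact ⟨⟨N, hq⟩, i', ha, (qcP X).ι.mono_of_mono_map (show Mono ((qcP X).ι.map i') from hi)⟩
  have hD : ∀ (m : ℕ) (Z : QC X), (∀ i : ℕ, 0 < i → IsZero ((F.rightDerived (i + m)).obj Z.obj)) →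
      PClassRes.D P m Z := by
    intro m
    induction m with
    | zero => exact fun Z h i hi => h i hi
    | succ m ih =>
      intro Z h S hS hZ hS2
      subst hZ
      refine ih _ fun i hi => AcycDef.isZero_quot F (hS.map_of_exact (qcP X).ι) hS2 (by omega) ?_
      have := h i hi
      rwa [show i + (m + 1) = i + m + 1 by omega] at this
  have key : ∀ (m : ℕ) (K : CochainComplex (QC X) ℤ), (∀ k, PClassRes.D P m (K.X k)) →
      ∃ (I : CochainComplex (QC X) ℤ) (s : K ⟶ I), QuasiIso s ∧ ∀ k : ℤ, P (I.X k) := by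
    intro m
    induction m with
    | zero => exact fun K hK => ⟨K, 𝟙 K, inferInstance, hK⟩
    | succ m ih =>
      intro K hK
      obtain ⟨T, ι, hι, hT⟩ := PClassRes.exists_mono (P := P) hmono
        (fun {U V} hU hV => hext _ _ _ (ShortComplex.Splitting.ofHasBinaryBiproduct U V).shortExact hU hV) K
      let S : ShortComplex (CochainComplex (QC X) ℤ) := ShortComplex.mk ι (cokernel.π ι) (cokernel.condition ι)
      have hS : S.ShortExact := ShortComplex.ShortExact.mk' (ShortComplex.exact_cokernel ι) hι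
        (inferInstanceAs (Epi (cokernel.π ι)))
      obtain ⟨J, g, hg, hJ⟩ := ih (cokernel ι) fun k =>
        hK k _ (hS.map_of_exact (HomologicalComplex.eval (QC X) (ComplexShape.up ℤ) k)) rfl (hT k)
      exact PClassRes.exists_cocone hext S hS hT g hJ
  exact key n K fun k => hD n _ fun i _ => hn _ (K.X k).property _ (by omega)

variable [ObjectProperty.ContainsZero (qcP Y)] [ObjectProperty.IsClosedUnderKernels (qcP Y)]
  [ObjectProperty.IsClosedUnderCokernels (qcP Y)] [ObjectProperty.IsClosedUnderFiniteProducts (qcP Y)]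
  [PreservesFiniteLimits (ObjectProperty.ι (qcP Y))] [PreservesFiniteColimits (ObjectProperty.ι (qcP Y))]

/-- **the square commutes** -/
theorem square [CompactSpace Y] (f : X ⟶ Y) [QuasiCompact f] [QuasiSeparated f] [DCoh.HasRpush f]
    [HasInjectiveResolutions X.Modules] (hE : EmbAc f)
    (hf : ∀ M : X.Modules, Coh.IsQCoh M → Coh.IsQCoh ((Scheme.Modules.pushforward f).obj M))
    [(ObjectProperty.lift (qcP Y) ((qcP X).ι ⋙ Scheme.Modules.pushforward f) (fun M => hf M.obj M.property)).Additive]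
    [((ObjectProperty.lift (qcP Y) ((qcP X).ι ⋙ Scheme.Modules.pushforward f)
      (fun M => hf M.obj M.property)).mapHomotopyCategory (ComplexShape.up ℤ) ⋙
        DerivedCategory.Qh).HasRightDerivedFunctor (HomotopyCategory.quasiIso (QC X) (ComplexShape.up ℤ))] :
    Nonempty (((ObjectProperty.lift (qcP Y) ((qcP X).ι ⋙ Scheme.Modules.pushforward f)
      (fun M => hf M.obj M.property)).mapHomotopyCategory (ComplexShape.up ℤ) ⋙
        DerivedCategory.Qh).totalRightDerived DerivedCategory.Qh
          (HomotopyCategory.quasiIso (QC X) (ComplexShape.up ℤ)) ⋙ ιD Y ≅ ιD X ⋙ DCoh.Rpush f) := by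
  let W := HomotopyCategory.quasiIso (QC X) (ComplexShape.up ℤ)
  let G := ObjectProperty.lift (qcP Y) ((qcP X).ι ⋙ Scheme.Modules.pushforward f) (fun M => hf M.obj M.property)
  let T := G.mapHomotopyCategory (ComplexShape.up ℤ) ⋙ DerivedCategory.Qh
  let P : ObjectProperty (HomotopyCategory (QC X) (ComplexShape.up ℤ)) := fun K => ∀ k, Ac f (K.as.X k).obj
  let ιX := (qcP X).ι.mapHomotopyCategory (ComplexShape.up ℤ)
  -- the transformation
  let e1 : (qcP X).ι ⋙ Scheme.Modules.pushforward f ≅ G ⋙ (qcP Y).ι := Iso.refl _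
  let e : T ⋙ ιD Y ≅ ιX ⋙ DCoh.pushKh f :=
    Functor.associator _ _ _ ≪≫ Functor.isoWhiskerLeft _ (qcP Y).ι.mapDerivedCategoryFactorsh ≪≫
      (Functor.associator _ _ _).symm ≪≫ Functor.isoWhiskerRight
        (Functor.mapHomotopyCategoryCompIso (Iso.refl (G ⋙ (qcP Y).ι)) (ComplexShape.up ℤ) ≪≫
          (Functor.mapHomotopyCategoryCompIso e1 (ComplexShape.up ℤ)).symm) _ ≪≫ Functor.associator _ _ _
  let r : ιX ⋙ DerivedCategory.Qh ⋙ DCoh.Rpush f ≅ DerivedCategory.Qh ⋙ ιD X ⋙ DCoh.Rpush f :=
    (Functor.associator _ _ _).symm ≪≫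
      Functor.isoWhiskerRight (qcP X).ι.mapDerivedCategoryFactorsh.symm _ ≪≫ Functor.associator _ _ _
  let β : T ⋙ ιD Y ⟶ DerivedCategory.Qh ⋙ ιD X ⋙ DCoh.Rpush f :=
    e.hom ≫ Functor.whiskerLeft ιX (DerPush.rpushUnit f) ≫ r.hom
  have hu : ∀ K, P K → IsIso ((DerPush.rpushUnit f).app (ιX.obj K)) := fun K hK =>
    DQPush.isIso_unit_of_acyclic f (((qcP X).ι.mapHomologicalComplex (ComplexShape.up ℤ)).obj K.as)
      (fun k => (K.as.X k).property) fun k i hi => hK k i hi
  have hβ : ∀ K, P K → IsIso (β.app K) := fun K hK => by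
    have := hu K hK
    have h1 : β.app K = e.hom.app K ≫ (DerPush.rpushUnit f).app (ιX.obj K) ≫ r.hom.app K := rfl
    rw [h1]
    infer_instance
  obtain ⟨n, hn⟩ := exists_bound_rpush f
  have hdef : AcycDef.IsDef (DerivedCategory.Qh (C := QC X)) T P := by
    refine AcycDef.isDef_of_fractions _ W _ _ (fun K => ?_) (fun {I J} s hI hJ hs => ?_)
    · obtain ⟨I, s, hs, hI⟩ := exists_resolution f hE n hn K.as
      exact ⟨(HomotopyCategory.quotient _ _).obj I, (HomotopyCategory.quotient _ _).map s, hI,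
        (HomotopyCategory.quotient_map_mem_quasiIso_iff s).2 hs⟩
    · haveI := hβ I hI
      haveI := hβ J hJ
      haveI : IsIso (DerivedCategory.Qh.map s) := Localization.inverts DerivedCategory.Qh W s hs
      have hn' := β.naturality s
      haveI : IsIso ((DerivedCategory.Qh ⋙ ιD X ⋙ DCoh.Rpush f).map s) :=
        inferInstanceAs (IsIso ((DCoh.Rpush f).map ((ιD X).map (DerivedCategory.Qh.map s))))
      have h2 : IsIso ((T ⋙ ιD Y).map s ≫ β.app J) := by rw [hn']; infer_instance
      haveI : IsIso ((ιD Y).map (T.map s)) := @IsIso.of_isIso_comp_right _ _ _ _ _ _ (β.app J) _ h2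
      -- the inclusion reflects isomorphisms
      refine (DerivedCategory.isIso_iff _ _).2 fun i => ?_
      haveI : IsIso ((DerivedCategory.homologyFunctor Y.Modules i).map ((ιD Y).map (T.map s))) := inferInstance
      haveI : IsIso ((qcP Y).ι.map ((DerivedCategory.homologyFunctor (QC Y) i).map (T.map s))) :=
        (NatIso.isIso_map_iff (DQCoh.homologyDerIso (qcP Y).ι i) (T.map s)).1 this
      exact isIso_of_fully_faithful (qcP Y).ι _
  exact nonempty_iso_of_isDef W hdef _ (T.totalRightDerivedUnit DerivedCategory.Qh W) (ιD Y) _ β hβ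

end Groth.Agent.DerQC
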